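import Cfsg.Agent.H775.PU.Bound_m3
import Cfsg.Agent.S3083
import Cfsg.Agent.Prune
set_option linter.all false
prune_inst 0x7f00000000000000000000000000000000000000000000000000000000000000000000000000000000000000000000000000000000000000000000000000000000000000000000000000000000000000003fffffffffffffffffffffffffffbeffbdffffffff

/-!
# S5258 (hub helper756), task 4650 = PU-G4 (helper775): `StBound` and `StBound'`
-/

set_option autoImplicit false

namespace Cfsg.Agent.H775.PU

open Cfsg Cfsg.Agent.H756.PU

universe u

theorem b3083 : B3083.{u} :=
  fun p _ M hM T V _ _ _ ρ hρ => Cfsg.Agent.S3083.result p M hM T V ρ hρ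

theorem stBound : StBound.{u} := bound_of b3083

theorem stBound' : StBound'.{u} := bound'_of b3083

end Cfsg.Agent.H775.PU
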